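/-
Sheafified representables: universal property, cofans, initiality.
-/
import Mathlib

set_option backward.isDefEq.respectTransparency false
set_option backward.isDefEq.respectTransparency.types false
set_option autoImplicit false

universe u

open CategoryTheory Category Limits Opposite

namespace Groth.Agent.ShYonLib

variable {C : Type u} [SmallCategory C] {J : GrothendieckTopology C}

/-- Morphisms out of a sheafified representable. -/
noncomputable def yEquiv (X : C) (G : Sheaf J (Type u)) :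
    ((presheafToSheaf J (Type u)).obj (yoneda.obj X) ⟶ G) ≃ G.obj.obj (op X) :=
  ((sheafificationAdjunction J (Type u)).homEquiv (yoneda.obj X) G).trans yonedaEquiv

theorem yEquiv_nat {X Y : C} {G : Sheaf J (Type u)} (g : Y ⟶ X)
    (f : (presheafToSheaf J (Type u)).obj (yoneda.obj X) ⟶ G) :
    G.obj.map g.op (yEquiv X G f) = yEquiv Y G ((presheafToSheaf J (Type u)).map (yoneda.map g) ≫ f) := by
  simp only [yEquiv, Equiv.trans_apply, Adjunction.homEquiv_naturality_left]
  exact yonedaEquiv_naturality _ g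

theorem yEquiv_comp {X : C} {G G' : Sheaf J (Type u)} (f : (presheafToSheaf J (Type u)).obj (yoneda.obj X) ⟶ G)
    (g : G ⟶ G') : yEquiv X G' (f ≫ g) = g.hom.app (op X) (yEquiv X G f) := by
  simp only [yEquiv, Equiv.trans_apply, Adjunction.homEquiv_naturality_right]
  exact yonedaEquiv_comp _ _

theorem isColimit_iff {X : C} {ι : Type u} (Y : ι → C) (s : ∀ i, Y i ⟶ X) :
    Nonempty (IsColimit (Cofan.mk ((presheafToSheaf J (Type u)).obj (yoneda.obj X))
      (fun i => (presheafToSheaf J (Type u)).map (yoneda.map (s i))))) ↔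
      ∀ G : Sheaf J (Type u), Function.Bijective fun x : G.obj.obj (op X) => fun i => G.obj.map (s i).op x := by
  constructor
  · rintro ⟨h⟩ G
    refine ⟨fun x y hxy => ?_, fun v => ?_⟩
    · obtain ⟨f, rfl⟩ := (yEquiv X G).surjective x
      obtain ⟨g, rfl⟩ := (yEquiv X G).surjective y
      refine congrArg _ (Cofan.IsColimit.hom_ext h _ _ fun i => ?_)
      have := congrFun hxy i
      simp only [yEquiv_nat] at this
      exact (yEquiv _ G).injective this
    · refine ⟨yEquiv X G (Cofan.IsColimit.desc h fun i => (yEquiv _ G).symm (v i)), funext fun i => ?_⟩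
      change G.obj.map (s i).op _ = v i
      rw [yEquiv_nat]
      refine (Equiv.eq_symm_apply _).1 ?_
      exact Cofan.IsColimit.fac h _ i
  · intro h
    refine ⟨mkCofanColimit _ (fun t => (yEquiv X t.pt).symm ((h t.pt).2 fun i => yEquiv _ t.pt (t.inj i)).choose)
      (fun t i => ?_) (fun t m hm => ?_)⟩
    · refine (yEquiv _ t.pt).injective ?_
      change yEquiv _ t.pt ((presheafToSheaf J (Type u)).map (yoneda.map (s i)) ≫ _) = _
      rw [← yEquiv_nat, Equiv.apply_symm_apply]
      exact congrFun ((h t.pt).2 fun i => yEquiv _ t.pt (t.inj i)).choose_spec i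
    · refine (yEquiv X t.pt).injective ?_
      rw [Equiv.apply_symm_apply]
      refine (h t.pt).1 (funext fun i => ?_)
      change t.pt.obj.map (s i).op _ = t.pt.obj.map (s i).op _
      rw [yEquiv_nat]
      refine Eq.trans ?_ (congrFun ((h t.pt).2 fun i => yEquiv _ t.pt (t.inj i)).choose_spec i).symm
      exact congrArg _ (hm i)

theorem isColimit_of_le {J' : GrothendieckTopology C} (hJ : J ≤ J') {X : C} {ι : Type u} (Y : ι → C)
    (s : ∀ i, Y i ⟶ X)
    (h : Nonempty (IsColimit (Cofan.mk ((presheafToSheaf J (Type u)).obj (yoneda.obj X))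
      (fun i => (presheafToSheaf J (Type u)).map (yoneda.map (s i)))))) :
    Nonempty (IsColimit (Cofan.mk ((presheafToSheaf J' (Type u)).obj (yoneda.obj X))
      (fun i => (presheafToSheaf J' (Type u)).map (yoneda.map (s i))))) := by
  rw [isColimit_iff] at h ⊢
  exact fun G => h ⟨G.obj, (isSheaf_iff_isSheaf_of_type J G.obj).2
    (Presieve.isSheaf_of_le G.obj hJ ((isSheaf_iff_isSheaf_of_type J' G.obj).1 G.property))⟩

/-- Closed sieves as a sheaf. -/
noncomputable def omega (J : GrothendieckTopology C) : Sheaf J (Type u) :=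
  ⟨(Functor.closedSieves J).toFunctor, (isSheaf_iff_isSheaf_of_type J _).2 (classifier_isSheaf J)⟩

theorem bot_mem_of_subsingleton {X : C} (h : Subsingleton ((omega J).obj.obj (op X))) : (⊥ : Sieve X) ∈ J X := by
  rw [← J.close_eq_top_iff_mem]
  exact congrArg Subtype.val (h.elim
    (show (omega J).obj.obj (op X) from Subtype.mk (J.close ⊥) (J.close_isClosed ⊥))
    (show (omega J).obj.obj (op X) from Subtype.mk (⊤ : Sieve X) fun _ _ _ => trivial))

theorem unique_of_bot_mem {X : C} (h : (⊥ : Sieve X) ∈ J X) (G : Sheaf J (Type u)) : Nonempty (Unique (G.obj.obj (op X))) := by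
  obtain ⟨x, hx, huniq⟩ := (isSheaf_iff_isSheaf_of_type J G.obj).1 G.property _ h
    (fun _ f hf => absurd hf (by simp)) (fun _ _ _ _ _ _ _ hf => absurd hf (by simp))
  exact ⟨⟨⟨x⟩, fun y => huniq y fun _ _ hf => absurd hf (by simp)⟩⟩

theorem isInitial_iff (X : C) :
    Nonempty (IsInitial ((presheafToSheaf J (Type u)).obj (yoneda.obj X))) ↔ (⊥ : Sieve X) ∈ J X := by
  constructor
  · rintro ⟨h⟩
    refine bot_mem_of_subsingleton ⟨fun a b => ?_⟩
    exact (yEquiv X (omega J)).symm.injective (h.hom_ext _ _)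
  · intro h
    exact ⟨IsInitial.ofUniqueHom (fun G => (yEquiv X G).symm (unique_of_bot_mem h G).some.default)
      fun G m => (Equiv.eq_symm_apply _).2 ((unique_of_bot_mem h G).some.uniq _)⟩

theorem isDetecting (G : Set C)
    (hG : ∀ X : C, ∃ (ι : Type u) (Y : ι → C) (f : ∀ i, Y i ⟶ X), Sieve.ofArrows Y f ∈ J X ∧ ∀ i, Y i ∈ G) :
    (ObjectProperty.ofObj fun X : G => (presheafToSheaf J (Type u)).obj (yoneda.obj (X : C))).IsDetecting := by
  intro A B φ hφ
  have key : ∀ Y ∈ G, Function.Bijective (φ.hom.app (op Y)) := fun Y hY => by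
    refine ⟨fun a b hab => ?_, fun b => ?_⟩
    · obtain ⟨a', rfl⟩ := (yEquiv Y A).surjective a
      obtain ⟨b', rfl⟩ := (yEquiv Y A).surjective b
      rw [← yEquiv_comp, ← yEquiv_comp] at hab
      obtain ⟨l, -, hu⟩ := hφ _ ⟨(⟨Y, hY⟩ : G)⟩ (b' ≫ φ)
      exact congrArg _ ((hu a' ((yEquiv Y B).injective hab)).trans (hu b' rfl).symm)
    · obtain ⟨b', rfl⟩ := (yEquiv Y B).surjective b
      obtain ⟨l, hl, -⟩ := hφ _ ⟨(⟨Y, hY⟩ : G)⟩ b'
      exact ⟨yEquiv Y A l, by rw [← yEquiv_comp, hl]⟩
  haveI : Sheaf.IsLocallyInjective φ := ⟨fun {X} a b hab => by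
    obtain ⟨ι, Y, f, hf, hY⟩ := hG X.unop
    refine J.superset_covering ?_ hf
    rw [Sieve.ofArrows, Sieve.generate_le_iff]
    rintro _ _ ⟨i⟩
    refine (key _ (hY i)).1 ?_
    have h1 := NatTrans.naturality_apply φ.hom (f i).op a
    have h2 := NatTrans.naturality_apply φ.hom (f i).op b
    exact h1.trans ((congrArg _ hab).trans h2.symm)⟩
  haveI : Sheaf.IsLocallySurjective φ := ⟨fun {X} b => by
    obtain ⟨ι, Y, f, hf, hY⟩ := hG X
    refine J.superset_covering ?_ hf
    rw [Sieve.ofArrows, Sieve.generate_le_iff]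
    rintro _ _ ⟨i⟩
    exact (key _ (hY i)).2 _⟩
  exact (Sheaf.isLocallyBijective_iff_isIso φ).1 ⟨inferInstance, inferInstance⟩

theorem isCocontinuous_of_ran {C' : Type u} [SmallCategory C'] {J' : GrothendieckTopology C'} (F : C ⥤ C')
    (h : ∀ G : Sheaf J (Type u), Presheaf.IsSheaf J' ((F.op.ran).obj G.obj)) : F.IsCocontinuous J J' := by
  refine ⟨fun {X} {S} hS => ?_⟩
  let α := ((Functor.whiskeringLeft Cᵒᵖ C'ᵒᵖ (Type u)).obj F.op).map S.functorInclusion
  have hW : J.W α := by
    intro Z hZ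
    let e := (F.op.ranAdjunction (Type u)).homEquiv
    have hs := Presieve.isSheafFor_iff_yonedaSheafCondition.1
      ((isSheaf_iff_isSheaf_of_type J' _).1 (h ⟨Z, hZ⟩) S hS)
    refine ⟨fun a b hab => ?_, fun w => ?_⟩
    · refine (e _ _).injective ?_
      obtain ⟨g, -, hg⟩ := hs (S.functorInclusion ≫ e _ _ a)
      refine (hg _ rfl).trans (hg _ ?_).symm
      change S.functorInclusion ≫ e _ _ b = S.functorInclusion ≫ e _ _ a
      rw [← Adjunction.homEquiv_naturality_left, ← Adjunction.homEquiv_naturality_left]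
      exact congrArg _ hab.symm
    · obtain ⟨g, hg, -⟩ := hs (e _ _ w)
      refine ⟨(e _ _).symm g, ?_⟩
      change α ≫ (e _ _).symm g = w
      rw [← Adjunction.homEquiv_naturality_left_symm, hg, Equiv.symm_apply_apply]
  have hsurj : Presheaf.IsLocallySurjective J α := ((J.W_iff_isLocallyBijective α).1 hW).2
  refine J.superset_covering ?_ (Presheaf.imageSieve_mem J α (U := op X) (𝟙 (F.obj X)))
  rintro V i ⟨⟨t, ht⟩, heq⟩
  change t = F.map i ≫ 𝟙 _ at heq
  rw [Category.comp_id] at heq
  change S (F.map i)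
  rw [← heq]
  exact ht

end Groth.Agent.ShYonLib
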