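/-
Covering families that become coproduct decompositions after sheafification.
-/
import Groth.Agent.ShYonLib.Basic
import Mathlib

set_option backward.isDefEq.respectTransparency false
set_option backward.isDefEq.respectTransparency.types false
set_option linter.style.haveILetI false
set_option autoImplicit false

universe u

open CategoryTheory Category Limits Opposite

namespace Groth.Agent.ShYonLib

variable {C : Type u} [SmallCategory C] (J : GrothendieckTopology C) {X : C} {ι : Type u} (Y : ι → C) (s : ∀ i, Y i ⟶ X)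

/-- The family is covering, locally injective and locally disjoint. -/
structure IsDecomp : Prop where
  cover : Sieve.ofArrows Y s ∈ J X
  inj : ∀ (i : ι) (Z : C) (g h : Z ⟶ Y i), g ≫ s i = h ≫ s i →
    ∃ R ∈ J Z, ∀ (W : C) (a : W ⟶ Z), R a → a ≫ g = a ≫ h
  disj : ∀ (i j : ι), i ≠ j → ∀ (Z : C) (g : Z ⟶ Y i) (h : Z ⟶ Y j), g ≫ s i = h ≫ s j → (⊥ : Sieve Z) ∈ J Z

/-- The disjoint union of the representables. -/
def sigmaPsh : Cᵒᵖ ⥤ Type u where
  obj Z := Σ k, (Z.unop ⟶ Y k)
  map f := ↾fun p => ⟨p.1, f.unop ≫ p.2⟩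
  map_id Z := by
    refine ConcreteCategory.hom_ext _ _ fun p => ?_
    change (⟨p.1, 𝟙 Z.unop ≫ p.2⟩ : Σ k, (Z.unop ⟶ Y k)) = p
    rw [Category.id_comp]
  map_comp {Z W V} f g := by
    refine ConcreteCategory.hom_ext _ _ fun p => ?_
    change (⟨p.1, (g.unop ≫ f.unop) ≫ p.2⟩ : Σ k, (V.unop ⟶ Y k)) = ⟨p.1, g.unop ≫ f.unop ≫ p.2⟩
    rw [Category.assoc]

theorem bijective_of_isDecomp (h : IsDecomp J Y s) (G : Sheaf J (Type u)) :
    Function.Bijective fun x : G.obj.obj (op X) => fun i => G.obj.map (s i).op x := by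
  have hG := (isSheaf_iff_isSheaf_of_type J G.obj).1 G.property
  have hsh : Presieve.IsSheafFor G.obj (Presieve.ofArrows Y s) := by
    rw [Presieve.isSheafFor_iff_generate]
    exact hG _ h.cover
  refine ⟨fun x y hxy => ?_, fun v => ?_⟩
  · exact hsh.isSeparatedFor.ext fun W g hg => by
      obtain ⟨i⟩ := hg
      exact congrFun hxy i
  · obtain ⟨x, hx, -⟩ := (Presieve.isSheafFor_arrows_iff G.obj s).1 hsh v (by
      intro i j Z gi gj hg
      by_cases hij : i = j
      · subst hij
        obtain ⟨R, hR, hRe⟩ := h.inj i Z gi gj hg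
        refine (hG.isSeparated R hR).ext fun W a ha => ?_
        rw [← ConcreteCategory.comp_apply, ← ConcreteCategory.comp_apply, ← G.obj.map_comp, ← G.obj.map_comp,
          ← op_comp, ← op_comp, hRe W a ha]
      · obtain ⟨hu⟩ := unique_of_bot_mem (h.disj i j hij Z gi gj hg) G
        exact hu.instSubsingleton.elim _ _)
    exact ⟨x, funext hx⟩

theorem isDecomp_of_bijective
    (h : ∀ G : Sheaf J (Type u), Function.Bijective fun x : G.obj.obj (op X) => fun i => G.obj.map (s i).op x) :
    IsDecomp J Y s := by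
  let G : Sheaf J (Type u) := (presheafToSheaf J (Type u)).obj (sigmaPsh Y)
  let η := toSheafify J (sigmaPsh Y)
  obtain ⟨x, hx⟩ := (h G).2 fun k => η.app (op (Y k)) (show (sigmaPsh Y).obj (op (Y k)) from ⟨k, 𝟙 (Y k)⟩)
  have key : ∀ (k : ι) (Z : C) (g : Z ⟶ Y k),
      η.app (op Z) (show (sigmaPsh Y).obj (op Z) from ⟨k, g⟩) = G.obj.map (g ≫ s k).op x := by
    intro k Z g
    rw [op_comp, G.obj.map_comp, ConcreteCategory.comp_apply,
      show G.obj.map (s k).op x = η.app (op (Y k)) (show (sigmaPsh Y).obj (op (Y k)) from ⟨k, 𝟙 (Y k)⟩) from congrFun hx k]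
    refine Eq.trans ?_ (NatTrans.naturality_apply η g.op _)
    exact congrArg _ (congrArg (Sigma.mk k) (Category.comp_id g).symm)
  have heqs : ∀ (i j : ι) (Z : C) (g : Z ⟶ Y i) (g' : Z ⟶ Y j), g ≫ s i = g' ≫ s j →
      Presheaf.equalizerSieve (F := sigmaPsh Y) (show (sigmaPsh Y).obj (op Z) from ⟨i, g⟩) (show (sigmaPsh Y).obj (op Z) from ⟨j, g'⟩)
        ∈ J Z := by
    intro i j Z g g' hg
    haveI : Presheaf.IsLocallyInjective J η := inferInstanceAs (Presheaf.IsLocallyInjective J (toSheafify J _))
    exact Presheaf.equalizerSieve_mem J η _ _ (by rw [key, key, hg])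
  refine ⟨?_, fun i Z g g' hg => ⟨_, heqs i i Z g g' hg, fun W a ha => ?_⟩, fun i j hij Z g g' hg => ?_⟩
  · rw [← J.close_eq_top_iff_mem]
    have := (h (omega J)).1
      (a₁ := show (omega J).obj.obj (op X) from Subtype.mk (J.close (Sieve.ofArrows Y s)) (J.close_isClosed _))
      (a₂ := show (omega J).obj.obj (op X) from Subtype.mk (⊤ : Sieve X) fun _ _ _ => trivial) (funext fun i => by
        refine Subtype.ext ?_
        change (J.close (Sieve.ofArrows Y s)).pullback (s i) = (⊤ : Sieve X).pullback (s i)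
        rw [Sieve.pullback_top]
        exact Sieve.pullback_eq_top_of_mem _ (J.le_close _ _ (Sieve.ofArrows_mk _ _ i)))
    exact congrArg Subtype.val this
  · have h1 : (⟨i, a ≫ g⟩ : Σ k, (W ⟶ Y k)) = ⟨i, a ≫ g'⟩ := ha
    exact eq_of_heq (Sigma.ext_iff.1 h1).2
  · refine J.superset_covering (fun W a ha => ?_) (heqs i j Z g g' hg)
    have h1 : (⟨i, a ≫ g⟩ : Σ k, (W ⟶ Y k)) = ⟨j, a ≫ g'⟩ := ha
    exact absurd (Sigma.ext_iff.1 h1).1 hij

theorem isColimit_iff_isDecomp :
    Nonempty (IsColimit (Cofan.mk ((presheafToSheaf J (Type u)).obj (yoneda.obj X))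
      (fun i => (presheafToSheaf J (Type u)).map (yoneda.map (s i))))) ↔ IsDecomp J Y s :=
  (isColimit_iff Y s).trans ⟨isDecomp_of_bijective J Y s, bijective_of_isDecomp J Y s⟩

variable {J Y s}

theorem isDecomp_of_pullbacks [∀ (i : ι) (Z : C) (g : Z ⟶ X), HasPullback (s i) g] (hcov : Sieve.ofArrows Y s ∈ J X)
    (hmono : ∀ i, Mono (s i)) (hdisj : ∀ i j, i ≠ j → (⊥ : Sieve (pullback (s i) (s j))) ∈ J (pullback (s i) (s j))) :
    IsDecomp J Y s := by
  refine ⟨hcov, fun i Z g h hg => ⟨⊤, J.top_mem Z, fun W a _ => ?_⟩, fun i j hij Z g h hg => ?_⟩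
  · haveI := hmono i
    rw [(cancel_mono (s i)).1 hg]
  · refine J.superset_covering ?_ (J.pullback_stable (pullback.lift g h hg) (hdisj i j hij))
    intro W a ha
    exact ha

section Diagonal

variable {i j : ι} {Z : C}

/-- The pair of representable sections as an element of the pullback presheaf. -/
noncomputable def pairElt (g : Z ⟶ Y i) (h : Z ⟶ Y j) (hg : g ≫ s i = h ≫ s j) :
    (pullback (yoneda.map (s i)) (yoneda.map (s j))).obj (op Z) :=
  yonedaEquiv (pullback.lift (yoneda.map g) (yoneda.map h) (by rw [← Functor.map_comp, ← Functor.map_comp, hg]))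

theorem pairElt_fst (g : Z ⟶ Y i) (h : Z ⟶ Y j) (hg : g ≫ s i = h ≫ s j) :
    (pullback.fst (yoneda.map (s i)) (yoneda.map (s j))).app (op Z) (pairElt g h hg) = g := by
  rw [pairElt, ← yonedaEquiv_comp, pullback.lift_fst, yonedaEquiv_yoneda_map]

theorem pairElt_snd (g : Z ⟶ Y i) (h : Z ⟶ Y j) (hg : g ≫ s i = h ≫ s j) :
    (pullback.snd (yoneda.map (s i)) (yoneda.map (s j))).app (op Z) (pairElt g h hg) = h := by
  rw [pairElt, ← yonedaEquiv_comp, pullback.lift_snd, yonedaEquiv_yoneda_map]

theorem elt_cond (p : (pullback (yoneda.map (s i)) (yoneda.map (s j))).obj (op Z)) :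
    (show Z ⟶ Y i from (pullback.fst (yoneda.map (s i)) (yoneda.map (s j))).app (op Z) p) ≫ s i =
      (show Z ⟶ Y j from (pullback.snd (yoneda.map (s i)) (yoneda.map (s j))).app (op Z) p) ≫ s j :=
  ConcreteCategory.congr_hom (NatTrans.congr_app (pullback.condition (f := yoneda.map (s i)) (g := yoneda.map (s j))) (op Z)) p

theorem elt_ext (p q : (pullback (yoneda.map (s i)) (yoneda.map (s j))).obj (op Z))
    (h₁ : (pullback.fst (yoneda.map (s i)) (yoneda.map (s j))).app (op Z) p =
      (pullback.fst (yoneda.map (s i)) (yoneda.map (s j))).app (op Z) q)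
    (h₂ : (pullback.snd (yoneda.map (s i)) (yoneda.map (s j))).app (op Z) p =
      (pullback.snd (yoneda.map (s i)) (yoneda.map (s j))).app (op Z) q) : p = q :=
  ((Types.isPullback_iff _ _ _ _).1 ((IsPullback.of_hasPullback (yoneda.map (s i)) (yoneda.map (s j))).map
    ((evaluation Cᵒᵖ (Type u)).obj (op Z)))).2.1 p q ⟨h₁, h₂⟩

end Diagonal

theorem isDecomp_iff : IsDecomp J Y s ↔
    (Sieve.ofArrows Y s ∈ J X ∧ (∀ i, IsIso ((presheafToSheaf J (Type u)).map (pullback.diagonal (yoneda.map (s i))))) ∧
      (∀ i j, i ≠ j → Nonempty (IsInitial ((presheafToSheaf J (Type u)).obj (pullback (yoneda.map (s i)) (yoneda.map (s j))))))) := by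
  constructor
  · intro h
    refine ⟨h.cover, fun i => ?_, fun i j hij => ?_⟩
    · rw [← GrothendieckTopology.W_iff, J.W_iff_isLocallyBijective]
      refine ⟨⟨fun {Z} a b hab => ?_⟩, ⟨fun {Z} p => ?_⟩⟩
      · have := congrArg (fun q => (pullback.fst (yoneda.map (s i)) (yoneda.map (s i))).app _ q) hab
        simp only [← ConcreteCategory.comp_apply, ← NatTrans.comp_app, pullback.diagonal_fst] at this
        obtain rfl : a = b := this
        rw [Presheaf.equalizerSieve_self_eq_top]
        exact J.top_mem _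
      · obtain ⟨R, hR, hRe⟩ := h.inj i Z _ _ (elt_cond p)
        refine J.superset_covering (fun W a ha => ?_) hR
        refine ⟨a ≫ (show Z ⟶ Y i from (pullback.fst (yoneda.map (s i)) (yoneda.map (s i))).app (op Z) p), ?_⟩
        refine elt_ext _ _ ?_ ?_
        · refine Eq.trans ?_ (NatTrans.naturality_apply (pullback.fst (yoneda.map (s i)) (yoneda.map (s i))) a.op p).symm
          rw [← ConcreteCategory.comp_apply, ← NatTrans.comp_app, pullback.diagonal_fst]
          rfl
        · refine Eq.trans ?_ (NatTrans.naturality_apply (pullback.snd (yoneda.map (s i)) (yoneda.map (s i))) a.op p).symm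
          rw [← ConcreteCategory.comp_apply, ← NatTrans.comp_app, pullback.diagonal_snd]
          exact hRe W a ha
    · have hu : ∀ (G : Sheaf J (Type u)) (Z : Cᵒᵖ), (pullback (yoneda.map (s i)) (yoneda.map (s j))).obj Z →
          Nonempty (Unique (G.obj.obj Z)) := fun G Z p => unique_of_bot_mem (h.disj i j hij Z.unop _ _ (elt_cond (Z := Z.unop) p)) G
      refine ⟨IsInitial.ofUniqueHom (fun G => ((sheafificationAdjunction J (Type u)).homEquiv _ G).symm
        { app := fun Z => ↾fun p => (hu G Z p).some.default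
          naturality := fun Z W f => by
            ext p
            obtain ⟨hun⟩ := hu G W ((pullback (yoneda.map (s i)) (yoneda.map (s j))).map f p)
            exact (hun.uniq _).trans (hun.uniq _).symm })
        fun G m => (Equiv.eq_symm_apply _).2 ?_⟩
      ext Z p
      exact (hu G Z p).some.uniq _
  · rintro ⟨hcov, hdiag, hinit⟩
    refine ⟨hcov, fun i Z g g' hg => ?_, fun i j hij Z g g' hg => ?_⟩
    · haveI : Presheaf.IsLocallySurjective J (pullback.diagonal (yoneda.map (s i))) :=
        ((J.W_iff_isLocallyBijective _).1 ((GrothendieckTopology.W_iff J _).2 (hdiag i))).2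
      refine ⟨_, Presheaf.imageSieve_mem J (pullback.diagonal (yoneda.map (s i))) (U := op Z) (pairElt g g' hg), ?_⟩
      rintro W a ⟨k, hk⟩
      have h1 := congrArg (fun q => (pullback.fst (yoneda.map (s i)) (yoneda.map (s i))).app (op W) q) hk
      have h2 := congrArg (fun q => (pullback.snd (yoneda.map (s i)) (yoneda.map (s i))).app (op W) q) hk
      simp only [NatTrans.naturality_apply, pairElt_fst, pairElt_snd] at h1 h2
      rw [← ConcreteCategory.comp_apply, ← NatTrans.comp_app, pullback.diagonal_fst] at h1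
      rw [← ConcreteCategory.comp_apply, ← NatTrans.comp_app, pullback.diagonal_snd] at h2
      exact h1.symm.trans h2
    · obtain ⟨hI⟩ := hinit i j hij
      let P := pullback (yoneda.map (s i)) (yoneda.map (s j))
      let top : P ⟶ (omega J).obj :=
        { app := fun Z => ↾fun _ => show (omega J).obj.obj Z from Subtype.mk (⊤ : Sieve Z.unop) fun _ _ _ => trivial
          naturality := fun Z W f => by ext p; exact Subtype.ext (Sieve.pullback_top).symm }
      let bot : P ⟶ (omega J).obj :=
        { app := fun Z => ↾fun _ => show (omega J).obj.obj Z from Subtype.mk (J.close ⊥) (J.close_isClosed _)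
          naturality := fun Z W f => by
            ext p
            refine Subtype.ext ?_
            change J.close ⊥ = (J.close ⊥).pullback f.unop
            rw [← J.pullback_close]
            ext
            simp }
      have he : bot = top := ((sheafificationAdjunction J (Type u)).homEquiv P (omega J)).symm.injective (hI.hom_ext _ _)
      rw [← J.close_eq_top_iff_mem]
      exact congrArg Subtype.val (ConcreteCategory.congr_hom (NatTrans.congr_app he (op Z)) (pairElt g g' hg))

section Canonical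

theorem isSheafFor_canonical (T : C) {W : C} {S : Sieve W} (hS : S ∈ Sheaf.canonicalTopology C W) :
    Presieve.IsSheafFor (yoneda.obj T) S.arrows :=
  Sheaf.isSheaf_yoneda_obj T _ hS

theorem isInitial_of_bot {W : C} (hW : (⊥ : Sieve W) ∈ Sheaf.canonicalTopology C W) : Nonempty (IsInitial W) := by
  choose x hx huniq using fun T : C => isSheafFor_canonical T hW
    (fun _ f hf => absurd hf (by simp)) (fun _ _ _ _ _ _ _ hf => absurd hf (by simp))
  exact ⟨IsInitial.ofUniqueHom x fun T m => huniq T m fun _ _ hf => absurd hf (by simp)⟩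

/-- A decomposition for the canonical topology is a colimit cofan. -/
theorem isColimit_of_isDecomp (h : IsDecomp (Sheaf.canonicalTopology C) Y s) : Nonempty (IsColimit (Cofan.mk X s)) := by
  have hb := fun T : C => bijective_of_isDecomp _ Y s h
    ⟨yoneda.obj T, (isSheaf_iff_isSheaf_of_type _ _).2 (Sheaf.isSheaf_yoneda_obj T)⟩
  refine ⟨mkCofanColimit _ (fun t => ((hb t.pt).2 fun i => t.inj i).choose) (fun t i => ?_) (fun t m hm => ?_)⟩
  · exact congrFun ((hb t.pt).2 fun i => t.inj i).choose_spec i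
  · exact (hb t.pt).1 (funext fun i => (hm i).trans (congrFun ((hb t.pt).2 fun i => t.inj i).choose_spec i).symm)

theorem mono_of_isDecomp (h : IsDecomp (Sheaf.canonicalTopology C) Y s) (i : ι) : Mono (s i) := by
  refine ⟨fun {Z} g g' hg => ?_⟩
  obtain ⟨R, hR, hRe⟩ := h.inj i Z g g' hg
  exact (isSheafFor_canonical (Y i) hR).isSeparatedFor.ext fun W a ha => hRe W a ha

variable [∀ (i : ι) (Z : C) (g : Z ⟶ X), HasPullback (s i) g]

theorem isDecomp_canonical_iff : IsDecomp (Sheaf.canonicalTopology C) Y s ↔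
    (Nonempty (IsColimit (Cofan.mk X s)) ∧ CoproductDisjoint Y ∧ IsUniversalColimit (Cofan.mk X s)) := by
  constructor
  · intro h
    obtain ⟨hc⟩ := isColimit_of_isDecomp h
    haveI := mono_of_isDecomp h
    haveI : ∀ i, Mono ((Cofan.mk X s).inj i) := fun i => mono_of_isDecomp h i
    refine ⟨⟨hc⟩, CoproductDisjoint.of_cofan hc (fun {i j} _ => pullback.cone (s i) (s j))
      (fun {i j} _ => pullback.isLimit (s i) (s j)) (fun {i j} hij => (isInitial_of_bot
        (h.disj i j hij _ _ _ pullback.condition)).some), ?_⟩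
    intro F' c' α f hα _ hpb
    have hinj : ∀ i, c'.ι.app ⟨i⟩ ≫ f = α.app ⟨i⟩ ≫ s i := fun i => (hpb ⟨i⟩).w
    have h' : IsDecomp (Sheaf.canonicalTopology C) (fun i => F'.obj ⟨i⟩) (fun i => c'.ι.app ⟨i⟩) := by
      refine ⟨?_, fun i Z g g' hg => ⟨⊤, (Sheaf.canonicalTopology C).top_mem Z, fun W a _ => ?_⟩,
        fun i j hij Z g g' hg => h.disj i j hij Z (g ≫ α.app ⟨i⟩) (g' ≫ α.app ⟨j⟩) ?_⟩
      · refine (Sheaf.canonicalTopology C).superset_covering ?_ ((Sheaf.canonicalTopology C).pullback_stable f h.cover)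
        rintro W a ⟨V, b, d, ⟨i⟩, hbd⟩
        refine ⟨F'.obj ⟨i⟩, (hpb ⟨i⟩).lift a b hbd.symm, _, ⟨i⟩, (hpb ⟨i⟩).lift_fst _ _ _⟩
      · haveI := mono_of_isDecomp h i
        have : g = g' := (hpb ⟨i⟩).hom_ext hg ((cancel_mono (s i)).1 (by
          rw [Category.assoc, Category.assoc, ← hinj, reassoc_of% hg]))
        rw [this]
      · rw [Category.assoc, Category.assoc, ← hinj, ← hinj, reassoc_of% hg]
    obtain ⟨hc'⟩ := isColimit_of_isDecomp h'
    exact ⟨IsColimit.ofIsoColimit ((IsColimit.precomposeHomEquiv Discrete.natIsoFunctor _).symm hc')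
      (Cocone.ext (Iso.refl _) (fun ⟨i⟩ => by simp [Discrete.natIsoFunctor]))⟩
  · rintro ⟨⟨hc⟩, hd, huniv⟩
    have hmono : ∀ i, Mono (s i) := fun i => hd.mono_inj hc i
    have hpull : ∀ {Z : C} (f : Z ⟶ X), Nonempty (IsColimit (Cofan.mk Z fun i => pullback.snd (s i) f)) := by
      intro Z f
      refine huniv (Cofan.mk Z fun i => pullback.snd (s i) f) (Discrete.natTrans fun ⟨i⟩ => pullback.fst (s i) f) f
        ?_ (NatTrans.equifibered_of_discrete _) fun ⟨i⟩ => (IsPullback.of_hasPullback (s i) f).flip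
      ext ⟨i⟩
      exact pullback.condition
    refine isDecomp_of_pullbacks (Sheaf.mem_finestTopology_of_forall_isSheafFor ?_) hmono fun i j hij => ?_
    · rintro _ ⟨T, rfl⟩ W f x hx
      obtain ⟨hW⟩ := hpull f
      have hmem : ∀ i, (Sieve.ofArrows Y s).pullback f (pullback.snd (s i) f) := fun i =>
        ⟨Y i, pullback.fst (s i) f, s i, ⟨i⟩, pullback.condition⟩
      refine ⟨Cofan.IsColimit.desc hW fun i => x _ (hmem i), fun V a ha => ?_, fun m hm => ?_⟩
      · obtain ⟨U, b, d, ⟨i⟩, hbd⟩ := ha
        have hl : pullback.lift b a hbd ≫ pullback.snd (s i) f = a := pullback.lift_snd _ _ _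
        have hx' := hx (𝟙 V) (pullback.lift b a hbd) ⟨_, b, _, Presieve.ofArrows.mk i, hbd⟩ (hmem i) (by rw [Category.id_comp, hl])
        change a ≫ _ = x a _
        refine Eq.trans ?_ ((Category.id_comp _).symm.trans hx').symm
        conv_lhs => rw [← hl, Category.assoc]
        exact congrArg (pullback.lift b a hbd ≫ ·) (Cofan.IsColimit.fac hW _ i)
      · refine Cofan.IsColimit.hom_ext hW _ _ fun i => ?_
        exact (hm _ (hmem i)).trans (Cofan.IsColimit.fac hW (fun i => x _ (hmem i)) i).symm
    · obtain ⟨hQ⟩ := hd.nonempty_isInitial_of_ne hc hij _ (pullback.isLimit (s i) (s j))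
      refine Sheaf.mem_finestTopology_of_forall_isSheafFor ?_
      rintro _ ⟨T, rfl⟩ W f x hx
      have hsub : ∀ a b : W ⟶ T, a = b := by
        intro a b
        classical
        let g := f ≫ pullback.fst (s i) (s j) ≫ s i
        obtain ⟨hW⟩ := hpull g
        have hi : (pullback.fst (s i) g) ≫ s i = pullback.snd (s i) g ≫ g := pullback.condition
        let e := Cofan.IsColimit.desc hW fun k => pullback.snd (s k) g ≫ if k = i then a else b
        have he : ∀ k, pullback.snd (s k) g ≫ e = pullback.snd (s k) g ≫ if k = i then a else b := fun k =>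
          Cofan.IsColimit.fac hW _ k
        have sec : ∀ k, ∀ (q : W ⟶ Y k), q ≫ s k = g → e = if k = i then a else b := by
          intro k q hq
          have h1 : pullback.lift q (𝟙 W) (by rw [hq, Category.id_comp]) ≫ pullback.snd (s k) g = 𝟙 W := pullback.lift_snd _ _ _
          have := congrArg (pullback.lift q (𝟙 W) (by rw [hq, Category.id_comp]) ≫ ·) (he k)
          simpa [reassoc_of% h1] using this
        have ea := sec i (f ≫ pullback.fst (s i) (s j)) (Category.assoc _ _ _)
        have eb := sec j (f ≫ pullback.snd (s i) (s j)) (by rw [Category.assoc, ← pullback.condition])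
        rw [if_pos rfl] at ea
        rw [if_neg (Ne.symm hij)] at eb
        exact ea.symm.trans eb
      exact ⟨f ≫ hQ.to T, fun V a ha => absurd ha (by simp), fun m _ => hsub _ _⟩

end Canonical

end Groth.Agent.ShYonLib
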